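import Cfsg.Agent.H858.Co3.EigLin

/-!
# S1920: the multiplicity space of `4 ∘ 2^{1+4}` in dimension 8 (helper858)

`mult` : `n₁, m₁, n₂, m₂` on `W` of dimension `4 d`, `nᵢ mᵢ = - mᵢ nᵢ`, the other pairs commute, `nᵢ²` scalar: a joint eigenspace
`U` of `n₁`, `n₂` has dimension `d`; an operator commuting with them preserves it, and an operator commuting with them and
vanishing on `U` is zero.  `mult_eig` : the eigenvalues on `W` of such an operator satisfy the quadratic relations on `U`.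
-/

set_option autoImplicit false

open Subgroup Module

namespace Cfsg.Agent.H858.Co3

variable {k W : Type*} [Field k] [IsAlgClosed k] [AddCommGroup W] [Module k W] [FiniteDimensional k W]

theorem mult [Nontrivial W] (h2 : (2 : k) ≠ 0) (n₁ m₁ n₂ m₂ : W →ₗ[k] W) (i₁ : Function.Injective n₁)
    (j₁ : Function.Injective m₁) (i₂ : Function.Injective n₂) (j₂ : Function.Injective m₂)
    (h₁ : ∀ w, n₁ (m₁ w) = -m₁ (n₁ w)) (h₂ : ∀ w, n₂ (m₂ w) = -m₂ (n₂ w))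
    (h₃ : ∀ w, n₁ (n₂ w) = n₂ (n₁ w)) (h₄ : ∀ w, n₁ (m₂ w) = m₂ (n₁ w)) {a₁ a₂ : k}
    (s₁ : ∀ w, n₁ (n₁ w) = a₁ • w) (s₂ : ∀ w, n₂ (n₂ w) = a₂ • w) :
    ∃ U : Submodule k W, finrank k W = 4 * finrank k U ∧
      (∀ T : W →ₗ[k] W, (∀ w, T (n₁ w) = n₁ (T w)) → (∀ w, T (n₂ w) = n₂ (T w)) → ∀ u ∈ U, T u ∈ U) ∧
      (∀ T : W →ₗ[k] W, (∀ w, T (m₁ w) = m₁ (T w)) → (∀ w, T (m₂ w) = m₂ (T w)) → (∀ u ∈ U, T u = 0) → T = 0) := by
  have sq : ∀ (n : W →ₗ[k] W) (a : k), Function.Injective n → (∀ w, n (n w) = a • w) →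
      ∃ α : k, α ≠ 0 ∧ ∀ w, n (n w) = (α * α) • w := by
    intro n a hn h
    obtain ⟨α, hα⟩ := IsAlgClosed.exists_pow_nat_eq a (n := 2) (by norm_num)
    refine ⟨α, ?_, fun w => by rw [h, ← pow_two, hα]⟩
    rintro rfl
    obtain ⟨w, hw⟩ := exists_ne (0 : W)
    apply hw
    apply hn
    apply hn
    rw [h, ← hα]
    simp
  obtain ⟨α, hα, hα'⟩ := sq n₁ a₁ i₁ s₁
  obtain ⟨γ, hγ, hγ'⟩ := sq n₂ a₂ i₂ s₂
  have hq := quad h2 hα hγ n₁ m₁ n₂ m₂ j₁ j₂ ⊤ (fun _ _ => trivial) (fun _ _ => trivial) (fun _ _ => trivial)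
    (fun _ _ => trivial) (fun w _ => hα' w) (fun w _ => hγ' w) (fun w _ => h₁ w) (fun w _ => h₂ w)
    (fun w _ => h₃ w) (fun w _ => h₄ w)
  rw [finrank_top] at hq
  refine ⟨eig (eig ⊤ n₁ α) n₂ γ, hq.1, ?_, ?_⟩
  · intro T t₁ t₂ u hu
    rw [mem_eig, mem_eig] at hu ⊢
    exact ⟨⟨trivial, by rw [← t₁, hu.1.2, map_smul]⟩, by rw [← t₂, hu.2, map_smul]⟩
  · intro T t₁ t₂ h0
    ext w
    exact hq.2 T (fun u _ => t₁ u) (fun u _ => t₂ u) h0 w trivial

/-- the form for a perfect group commuting with `n₁, m₁, n₂, m₂`, `dim W = 8` -/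
theorem mult_perfect {Γ : Type*} [Group Γ] (hΓ : commutator Γ = ⊤) (ρ : Γ →* (W →ₗ[k] W)) (hW : finrank k W = 8)
    (h2 : (2 : k) ≠ 0) (n₁ m₁ n₂ m₂ : W →ₗ[k] W) (i₁ : Function.Injective n₁)
    (j₁ : Function.Injective m₁) (i₂ : Function.Injective n₂) (j₂ : Function.Injective m₂)
    (h₁ : ∀ w, n₁ (m₁ w) = -m₁ (n₁ w)) (h₂ : ∀ w, n₂ (m₂ w) = -m₂ (n₂ w))
    (h₃ : ∀ w, n₁ (n₂ w) = n₂ (n₁ w)) (h₄ : ∀ w, n₁ (m₂ w) = m₂ (n₁ w)) {a₁ a₂ : k}
    (s₁ : ∀ w, n₁ (n₁ w) = a₁ • w) (s₂ : ∀ w, n₂ (n₂ w) = a₂ • w)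
    (t₁ : ∀ g w, ρ g (n₁ w) = n₁ (ρ g w)) (t₂ : ∀ g w, ρ g (m₁ w) = m₁ (ρ g w))
    (t₃ : ∀ g w, ρ g (n₂ w) = n₂ (ρ g w)) (t₄ : ∀ g w, ρ g (m₂ w) = m₂ (ρ g w)) :
    ∃ U : Submodule k W, ∃ hU : ∀ g, ∀ u ∈ U, ρ g u ∈ U, finrank k U = 2 ∧
      (∀ g, LinearMap.det (res ρ U hU g) = 1) ∧ (∀ g, res ρ U hU g = 1 → ρ g = 1) ∧
      (∀ g, ∀ l, Module.End.HasEigenvalue (ρ g) l → Module.End.HasEigenvalue (res ρ U hU g) l) := by
  have hnt : Nontrivial W := Module.nontrivial_of_finrank_pos (R := k) (by omega)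
  obtain ⟨U, hU2, hUT, hU0⟩ := mult h2 n₁ m₁ n₂ m₂ i₁ j₁ i₂ j₂ h₁ h₂ h₃ h₄ s₁ s₂
  have hU : ∀ g, ∀ u ∈ U, ρ g u ∈ U := fun g => hUT (ρ g) (t₁ g) (t₃ g)
  refine ⟨U, hU, by omega, fun g => det_one hΓ _ g, fun g hg => ?_, fun g l hl => ?_⟩
  · rw [← sub_eq_zero]
    refine hU0 (ρ g - 1) (fun w => by simp [t₂]) (fun w => by simp [t₄]) fun u hu => ?_
    have h3 := congrArg (fun f : ↥U →ₗ[k] ↥U => ((f ⟨u, hu⟩ : ↥U) : W)) hg
    rw [LinearMap.sub_apply, Module.End.one_apply, sub_eq_zero]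
    exact h3
  · -- the charpoly of the restriction annihilates `ρ g`
    let p := (res ρ U hU g).charpoly
    have hp : Polynomial.aeval (res ρ U hU g) p = 0 := LinearMap.aeval_self_charpoly _
    have hcomm : ∀ (m : W →ₗ[k] W), (∀ w, ρ g (m w) = m (ρ g w)) → ∀ w, Polynomial.aeval (ρ g) p (m w) =
        m (Polynomial.aeval (ρ g) p w) := by
      intro m hm w
      have h5 : Commute (ρ g) m := by
        ext v; exact hm v
      have h6 : Commute (Polynomial.aeval (ρ g) p) m := by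
        have := (Algebra.commute_of_mem_adjoin_singleton_of_commute (R := k) (a := m) (b := ρ g)
          (Polynomial.aeval_mem_adjoin_singleton k (ρ g) (p := p)) h5.symm).symm
        exact this
      exact congrArg (fun f : W →ₗ[k] W => f w) h6.eq
    have hres : ∀ (q : Polynomial k) (u : ↥U), ((Polynomial.aeval (res ρ U hU g) q u : ↥U) : W) =
        Polynomial.aeval (ρ g) q u := by
      intro q u
      induction q using Polynomial.induction_on' with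
      | add p q hp hq => simp [hp, hq]
      | monomial n a =>
        rw [Polynomial.aeval_monomial, Polynomial.aeval_monomial]
        have h7 : ∀ n : ℕ, (((res ρ U hU g) ^ n) u : W) = ((ρ g) ^ n) u := by
          intro n
          induction n with
          | zero => simp
          | succ n ih => rw [pow_succ', pow_succ', Module.End.mul_apply, Module.End.mul_apply, res_apply, ih]
        simp [Algebra.algebraMap_eq_smul_one, h7]
    have h0 : Polynomial.aeval (ρ g) p = 0 := hU0 _ (hcomm m₁ (t₂ g)) (hcomm m₂ (t₄ g)) fun u hu => by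
      have := hres p ⟨u, hu⟩
      rw [hp] at this
      simpa using this.symm
    obtain ⟨v, hv⟩ := hl.exists_hasEigenvector
    have h8 := Module.End.aeval_apply_of_hasEigenvector (p := p) hv
    rw [h0, LinearMap.zero_apply] at h8
    have h9 : p.eval l = 0 := (smul_eq_zero.1 h8.symm).resolve_right hv.2
    exact (Module.End.hasEigenvalue_iff_isRoot_charpoly _ _).2 h9

end Cfsg.Agent.H858.Co3
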